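import Cfsg.Agent.H375.O8.TypeA_m3
import Cfsg.Agent.H376.SpEmb
import Cfsg.Agent.H424.Spr.Two
import Cfsg.Agent.H383.Cov.Parity_m3
import Cfsg.Agent.H946.KZ.SameF4
import Cfsg.Agent.Prune
set_option linter.all false

section
prune_inst 0x7f00000000000000000000000000000000000000000000000000000000000000000000000000000000000000000000000000000000000000000000000000000000000000000000000000000000000000003fffffffffffffffffffffffffffbeffbdffffffff

-- part: H172/TH/Uni
section
set_option linter.all false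
open scoped Cfsg.Agent.FastGrp

-- part: H248/Cov/Spr8
section
/-!
# S3938 (3/2-generation), the row `PSp_8(q)`, `q` odd

An element `s` of order `q ^ 4 + 1` of `Sp_8(q)` lies in exactly one maximal subgroup, the normalizer of the field of
order `q ^ 2` in `F[s]`.
-/

set_option autoImplicit false
set_option linter.unusedSectionVars false

namespace Cfsg.Agent.H248.Cov

open Cfsg Cfsg.Geo Matrix Module
open Cfsg.Agent.ClassicalGeometry.SympBasic Cfsg.Agent.H876 Cfsg.Agent.H931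
open Cfsg.Agent.H262.El
open Cfsg.Agent.H884.El (PP)
open scoped MatrixGroups

universe u

section Unique

variable {ι : Type} [Fintype ι] [DecidableEq ι] {F : Type u} [Field F]

/-- matrices commuting with an irreducible element commute -/
theorem comm_of_irr [Fintype F] [Nonempty ι] {y : GL ι F}
    (hirr : ∀ W : Submodule F (ι → F), (∀ v ∈ W, (y : Matrix ι ι F) *ᵥ v ∈ W) → W = ⊥ ∨ W = ⊤)
    {a b : Matrix ι ι F} (ha : (y : Matrix ι ι F) * a = a * y) (hb : (y : Matrix ι ι F) * b = b * y) : a * b = b * a := by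
  have hI : Cfsg.Agent.H951.Irr (Matrix.toLin' (y : Matrix ι ι F)) ⊤ := by
    refine ⟨?_, fun w _ => Submodule.mem_top, fun U _ hU => hirr U fun v hv => ?_⟩
    · exact top_ne_bot
    · have := hU v hv
      rwa [Matrix.toLin'_apply] at this
  obtain ⟨P, hP⟩ := Cfsg.Agent.H118.BS.exists_poly (T := Matrix.toLin' a) hI (by
    rw [Module.End.mul_eq_comp, Module.End.mul_eq_comp, ← Matrix.toLin'_mul, ← Matrix.toLin'_mul, ha])
    (fun w _ => Submodule.mem_top)
  have h1 : Matrix.toLin' a = Polynomial.aeval (Matrix.toLin' (y : Matrix ι ι F)) P :=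
    LinearMap.ext fun v => hP v Submodule.mem_top
  have h2 : Commute (Matrix.toLin' (y : Matrix ι ι F)) (Matrix.toLin' b) := by
    change Matrix.toLin' (y : Matrix ι ι F) * Matrix.toLin' b = Matrix.toLin' b * Matrix.toLin' (y : Matrix ι ι F)
    rw [Module.End.mul_eq_comp, Module.End.mul_eq_comp, ← Matrix.toLin'_mul, ← Matrix.toLin'_mul, hb]
  have h3' : ∀ R : Polynomial F, Commute (Polynomial.aeval (Matrix.toLin' (y : Matrix ι ι F)) R) (Matrix.toLin' b) := by
    intro R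
    induction R using Polynomial.induction_on' with
    | add p q hp hq => rw [map_add]; exact hp.add_left hq
    | monomial n c => rw [Polynomial.aeval_monomial]; exact (Algebra.commute_algebraMap_left c _).mul_left (h2.pow_left n)
  have h3 := h3' P
  rw [← h1] at h3
  apply Matrix.toLin'.injective
  rw [Matrix.toLin'_mul, Matrix.toLin'_mul]
  exact h3

/-- **uniqueness of the quadratic field** -/
theorem field_unique [Fintype F] [Nonempty ι] {y : GL ι F}
    (hirr : ∀ W : Submodule F (ι → F), (∀ v ∈ W, (y : Matrix ι ι F) *ᵥ v ∈ W) → W = ⊥ ∨ W = ⊤)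
    {K L : Subalgebra F (Matrix ι ι F)} (hK : IsFieldSubalgebra 2 K) (hL : IsFieldSubalgebra 2 L)
    (hyK : ∀ k ∈ K, (y : Matrix ι ι F) * k = k * y) (hyL : ∀ k ∈ L, (y : Matrix ι ι F) * k = k * y) : K = L := by
  obtain ⟨t, ht⟩ := exists_t F
  obtain ⟨k, hk, hk2⟩ := exists_root hK ht
  obtain ⟨l, hl, hl2⟩ := exists_root hL ht
  have hkl : k * l = l * k := comm_of_irr hirr (hyK k hk) (hyL l hl)
  -- an operator commuting with `y` with nonzero kernel is zero
  have hz : ∀ a : Matrix ι ι F, (y : Matrix ι ι F) * a = a * y → (∃ v, v ≠ 0 ∧ a *ᵥ v = 0) → a = 0 := by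
    intro a ha ⟨v, hv, hv0⟩
    rcases hirr (LinearMap.ker (Matrix.toLin' a)) (fun w hw => by
      rw [LinearMap.mem_ker, Matrix.toLin'_apply] at hw ⊢
      rw [Matrix.mulVec_mulVec, ← ha, ← Matrix.mulVec_mulVec, hw, Matrix.mulVec_zero]) with h | h
    · exfalso
      apply hv
      rw [← Submodule.mem_bot F, ← h, LinearMap.mem_ker, Matrix.toLin'_apply]
      exact hv0
    · apply Matrix.toLin'.injective
      rw [map_zero]
      exact LinearMap.ker_eq_top.1 h
  have hprod : (l - k) * (l - (t • (1 : Matrix ι ι F) - k)) = 0 := by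
    have e : (l - k) * (l - (t • (1 : Matrix ι ι F) - k)) = (l * l - t • l + 1) - (k * k - t • k + 1) := by
      simp only [sub_mul, mul_sub, Matrix.mul_smul, Matrix.mul_one, hkl]
      abel
    rw [e, hk2, hl2, sub_self]
  have hlK : l ∈ K := by
    by_cases h1 : ∃ v, v ≠ 0 ∧ (l - (t • (1 : Matrix ι ι F) - k)) *ᵥ v = 0
    · have h2 := hz _ (by
        rw [mul_sub, sub_mul, hyL l hl, mul_sub, sub_mul, hyK k hk, Matrix.mul_smul, Matrix.smul_mul, Matrix.mul_one,
          Matrix.one_mul]) h1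
      rw [sub_eq_zero.1 h2]
      exact K.sub_mem (K.smul_mem K.one_mem t) hk
    · push Not at h1
      obtain ⟨v, hv⟩ := exists_ne (0 : ι → F)
      have h2 := hz (l - k) (by rw [mul_sub, sub_mul, hyL l hl, hyK k hk]) ⟨_, h1 v hv, by
        rw [Matrix.mulVec_mulVec, hprod, Matrix.zero_mulVec]⟩
      rw [sub_eq_zero.1 h2]
      exact hk
  -- the intersection is everything
  have hA : K ⊓ L ≠ ⊥ := by
    intro hb
    have h1 : l ∈ (⊥ : Subalgebra F (Matrix ι ι F)) := by
      rw [← hb]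
      exact ⟨hlK, hl⟩
    obtain ⟨c, hc⟩ := Algebra.mem_bot.1 h1
    apply ht c
    have h2 : algebraMap F (Matrix ι ι F) (c * c - t * c + 1) = 0 := by
      rw [map_add, map_sub, map_mul, map_mul, map_one, hc, ← hl2, ← Algebra.smul_def]
    exact (map_eq_zero_iff _ (algebraMap F (Matrix ι ι F)).injective).1 h2
  have h1 : finrank F (K ⊓ L : Subalgebra F (Matrix ι ι F)) ≠ 1 := fun h => hA (Subalgebra.finrank_eq_one_iff.1 h)
  have h0 : finrank F (K ⊓ L : Subalgebra F (Matrix ι ι F)) ≠ 0 := Module.finrank_pos.ne'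
  have h2 : finrank F (K ⊓ L : Subalgebra F (Matrix ι ι F)) ≤ finrank F K :=
    Submodule.finrank_mono (s := (K ⊓ L).toSubmodule) (t := K.toSubmodule) (fun x hx => hx.1)
  have h3 : finrank F (K ⊓ L : Subalgebra F (Matrix ι ι F)) = 2 := by
    have := hK.finrank_eq
    omega
  have e1 : K ⊓ L = K := Subalgebra.eq_of_le_of_finrank_eq inf_le_left (h3.trans hK.finrank_eq.symm)
  have e2 : K ⊓ L = L := Subalgebra.eq_of_le_of_finrank_eq inf_le_right (h3.trans hL.finrank_eq.symm)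
  rw [← e1, e2]

end Unique

section Main

variable {F : Type u} [Field F] [Fintype F]

end Main

end Cfsg.Agent.H248.Cov
end

-- part: H172/TH/Uni
section
/-!
# S3938: the fields of matrices centralised by an irreducible element (helper172)
-/

set_option autoImplicit false
set_option linter.unusedSectionVars false
set_option linter.style.haveILetI false

namespace Cfsg.Agent.H172.TH

open Cfsg Cfsg.Geo Module
open Cfsg.Agent.H248.Cov (comm_of_irr)
open scoped MatrixGroups Matrix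

variable {ι : Type} [Fintype ι] [DecidableEq ι] {F : Type} [Field F] [Fintype F]

theorem card_field {r : ℕ} {K : Subalgebra F (Matrix ι ι F)} (hK : IsFieldSubalgebra r K) :
    Nat.card K = Nat.card F ^ r := by
  rw [Module.natCard_eq_pow_finrank (K := F), hK.finrank_eq]

theorem pow_card_field [Nonempty ι] {r : ℕ} {K : Subalgebra F (Matrix ι ι F)} (hK : IsFieldSubalgebra r K)
    {k : Matrix ι ι F} (hk : k ∈ K) : k ^ (Nat.card F ^ r) = k := by
  have hf : IsField K :=
    { exists_pair_ne := ⟨0, 1, zero_ne_one⟩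
      mul_comm := fun x y => Subtype.ext (hK.comm _ x.2 _ y.2)
      mul_inv_cancel := fun {x} hx => by
        obtain ⟨y, hy, hxy⟩ := hK.inv _ x.2 (fun h => hx (Subtype.ext h))
        exact ⟨⟨y, hy⟩, Subtype.ext hxy⟩ }
  letI := hf.toField
  haveI : Finite K := Subtype.finite
  letI := Fintype.ofFinite K
  have h1 := FiniteField.pow_card (K := K) ⟨k, hk⟩
  rw [← Nat.card_eq_fintype_card, card_field hK] at h1
  exact congrArg Subtype.val h1

theorem ncard_le {R : Type*} [CommRing R] [IsDomain R] [Finite R] {N : ℕ} (hN : 1 < N) :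
    {c : R | c ^ N = c}.ncard ≤ N := by
  classical
  let P : Polynomial R := Polynomial.X ^ N - Polynomial.X
  have hd : P.natDegree = N := by
    have h1 : (Polynomial.X : Polynomial R).natDegree < (Polynomial.X ^ N : Polynomial R).natDegree := by
      rw [Polynomial.natDegree_X_pow, Polynomial.natDegree_X]
      exact hN
    rw [show P = Polynomial.X ^ N - Polynomial.X from rfl, Polynomial.natDegree_sub_eq_left_of_natDegree_lt h1,
      Polynomial.natDegree_X_pow]
  have hP : P ≠ 0 := by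
    intro h
    rw [h, Polynomial.natDegree_zero] at hd
    omega
  have h1 : {c : R | c ^ N = c} ⊆ (P.roots.toFinset : Set R) := by
    intro c hc
    rw [Finset.mem_coe, Multiset.mem_toFinset, Polynomial.mem_roots hP, Polynomial.IsRoot.def, Polynomial.eval_sub,
      Polynomial.eval_pow, Polynomial.eval_X]
    exact sub_eq_zero.2 hc
  calc {c : R | c ^ N = c}.ncard ≤ (P.roots.toFinset : Set R).ncard := Set.ncard_le_ncard h1 (Set.toFinite _)
    _ = P.roots.toFinset.card := Set.ncard_coe_finset _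
    _ ≤ Multiset.card P.roots := Multiset.toFinset_card_le _
    _ ≤ P.natDegree := Polynomial.card_roots' P
    _ = N := hd

theorem field_unique [Nonempty ι] {r : ℕ} {y : GL ι F}
    (hirr : ∀ W : Submodule F (ι → F), (∀ v ∈ W, (y : Matrix ι ι F) *ᵥ v ∈ W) → W = ⊥ ∨ W = ⊤)
    {K L : Subalgebra F (Matrix ι ι F)} (hK : IsFieldSubalgebra r K) (hL : IsFieldSubalgebra r L)
    (hyK : ∀ k ∈ K, (y : Matrix ι ι F) * k = k * y) (hyL : ∀ k ∈ L, (y : Matrix ι ι F) * k = k * y) : K = L := by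
  -- the centraliser is a domain
  obtain ⟨C, hC⟩ : ∃ C : Subalgebra F (Matrix ι ι F), ∀ c : Matrix ι ι F, c ∈ C ↔ (y : Matrix ι ι F) * c = c * y := by
    refine ⟨Subalgebra.centralizer F {(y : Matrix ι ι F)}, fun c => ?_⟩
    rw [Subalgebra.mem_centralizer_iff]
    exact ⟨fun h => h _ rfl, by rintro h _ rfl; exact h⟩
  have hz : ∀ a : Matrix ι ι F, (y : Matrix ι ι F) * a = a * y → (∃ v, v ≠ 0 ∧ a *ᵥ v = 0) → a = 0 := by
    intro a ha ⟨v, hv, hv0⟩
    rcases hirr (LinearMap.ker (Matrix.toLin' a)) (fun w hw => by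
      rw [LinearMap.mem_ker, Matrix.toLin'_apply] at hw ⊢
      rw [Matrix.mulVec_mulVec, ← ha, ← Matrix.mulVec_mulVec, hw, Matrix.mulVec_zero]) with h | h
    · exfalso
      apply hv
      rw [← Submodule.mem_bot F, ← h, LinearMap.mem_ker, Matrix.toLin'_apply]
      exact hv0
    · apply Matrix.toLin'.injective
      rw [map_zero]
      exact LinearMap.ker_eq_top.1 h
  letI : CommRing C := { (inferInstance : Ring C) with
    mul_comm := fun a b => Subtype.ext (comm_of_irr hirr ((hC _).1 a.2) ((hC _).1 b.2)) }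
  haveI : Nontrivial C := ⟨⟨0, 1, fun h => zero_ne_one (congrArg Subtype.val h)⟩⟩
  haveI : NoZeroDivisors C := ⟨fun {a b} h => by
    by_cases hb : (b : Matrix ι ι F) = 0
    · exact Or.inr (Subtype.ext hb)
    · left
      apply Subtype.ext
      have h1 : (a : Matrix ι ι F) * b = 0 := congrArg Subtype.val h
      obtain ⟨w, hw⟩ : ∃ w, (b : Matrix ι ι F) *ᵥ w ≠ 0 := by
        by_contra hcon
        push Not at hcon
        apply hb
        apply Matrix.toLin'.injective
        apply LinearMap.ext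
        intro w
        rw [Matrix.toLin'_apply, hcon, map_zero, LinearMap.zero_apply]
      exact hz _ ((hC _).1 a.2) ⟨_, hw, by rw [Matrix.mulVec_mulVec, h1, Matrix.zero_mulVec]⟩⟩
  haveI : IsDomain C := NoZeroDivisors.to_isDomain C
  haveI : Finite C := Subtype.finite
  have hle : ∀ {K : Subalgebra F (Matrix ι ι F)}, IsFieldSubalgebra r K →
      (∀ k ∈ K, (y : Matrix ι ι F) * k = k * y) → (K : Set (Matrix ι ι F)) ⊆ (C : Set (Matrix ι ι F)) :=
    fun _ hy k hk => (hC k).2 (hy k hk)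
  have hq : 1 < Nat.card F ^ r := by
    rw [← card_field hK]
    haveI : Nontrivial K := ⟨⟨0, 1, fun h => zero_ne_one (congrArg Subtype.val h)⟩⟩
    exact Finite.one_lt_card
  obtain ⟨S, hS, hSc⟩ : ∃ S : Set C, (∀ c, c ∈ S ↔ c ^ (Nat.card F ^ r) = c) ∧ S.ncard ≤ Nat.card F ^ r :=
    ⟨{c | c ^ (Nat.card F ^ r) = c}, fun _ => Iff.rfl, ncard_le hq⟩
  have key : ∀ {K : Subalgebra F (Matrix ι ι F)}, IsFieldSubalgebra r K →
      (∀ k ∈ K, (y : Matrix ι ι F) * k = k * y) → (K : Set (Matrix ι ι F)) = Subtype.val '' S := by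
    intro K hK hyK
    have h1 : (K : Set (Matrix ι ι F)) ⊆ Subtype.val '' S := by
      intro k hk
      exact ⟨⟨k, hle hK hyK hk⟩, (hS _).2 (Subtype.ext (pow_card_field hK hk)), rfl⟩
    apply Set.eq_of_subset_of_ncard_le h1 _ (Set.toFinite _)
    rw [Set.ncard_image_of_injective _ Subtype.val_injective]
    have h2 : (K : Set (Matrix ι ι F)).ncard = Nat.card F ^ r := by
      rw [← card_field hK]
      exact (Nat.card_coe_set_eq _).symm
    omega
  apply SetLike.coe_injective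
  rw [key hK hyK, key hL hyL]

end Cfsg.Agent.H172.TH
end
end

-- part: H394/Wei/CharG2
section
set_option linter.all false
open scoped Cfsg.Agent.FastGrp

/-!
# `G_2(q)`, one class of tori, the same characteristic (helper394)

`charp_g2_6` : the simple groups of Lie type in characteristic `p` whose order divides `|G_2(q)|` and is divisible by the
Zsigmondy primes of `q ^ 6 - 1` (adapted from helper325's `charp_g2`).
-/

set_option autoImplicit false

namespace Cfsg.Agent.H394.Wei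

open Cfsg.Agent.OrdDiv Cfsg.Agent.H436 Cfsg.Agent.H915.GN Cfsg.Agent.H264.GN Cfsg.Agent.H264.FKS Cfsg.Agent.H325.Same

variable {p f c : ℕ} {g : Grp}

/-- **`G_2(q)`, `q ≥ 3`, class 6.** -/
theorem charp_g2_6 (hp : p.Prime) (hf : 1 ≤ f) (h21 : ¬ (p = 2 ∧ f = 1)) (hg : Cond g) (hch : HasChar p g)
    (hc : den g * c = num g) (hdvd : c ∣ num (.g2 (p ^ f))) (hs6 : ∀ s, Prim p (f * 6) s → s ∣ c) :
    g = .g2 (p ^ f) ∨ g = .psl 2 (p ^ (3 * f)) ∨ g = .psu 3 (p ^ f) ∨ (p = 3 ∧ g = .ree (p ^ f)) ∨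
      (p = 2 ∧ ∃ h, f = 2 * h ∧ (g = .tf4 (p ^ h) ∨ g = .sz (p ^ (3 * h)))) := by
  obtain ⟨f₁, hf₁, hfl, hK, hY⟩ := kd_all hp hg hch hc
  have hT := td_g2 hp hf hdvd
  have hM2 := two_le_Mg hg hch
  have hb := f1_le hp hf₁ hT hK hY hM2 (by omega)
  obtain ⟨hfM, h2, -, -⟩ := comp hp hf hf₁ hT hK (by omega) (by omega) hs6 hY (by
    intro hp2 h6 h5
    omega)
  have hO := elimT_g2 hg hch (by omega)
  have hq : 2 ≤ p ^ f := hp.two_le.trans (Nat.le_self_pow (by omega) _)
  have b1 : 0 < p ^ f - 1 := by omega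
  have b2 := sub_pos' (d := 2) hq (by norm_num)
  have b3 := sub_pos' (d := 3) hq (by norm_num)
  have b6 := sub_pos' (d := 6) hq (by norm_num)
  have hd : c ∣ (p ^ f) ^ 6 * (((p ^ f) ^ 2 - 1) * ((p ^ f) ^ 6 - 1)) := hdvd
  have hc0 : 0 < c := pos_of_dvd (by positivity) hd
  obtain ⟨t, ht3⟩ := exists_prim (q := p ^ f) (e := 3) hq (by norm_num) (by omega)
  obtain ⟨s, hs4⟩ := exists_prim (q := p ^ f) (e := 4) hq (by norm_num) (by omega)
  have hn : ¬ s ∣ c := fun h => not_dvd_g2 hs4 (Or.inl rfl) (h.trans hdvd)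
  cases g
  case psl m q =>
    have hO' : m = 2 ∨ m = 3 := hO
    obtain rfl : q = p ^ f₁ := hfl
    rcases hO' with rfl | rfl
    · right; left
      have h5 : f₁ * 2 = f * 6 := hfM
      obtain rfl : f₁ = 3 * f := by omega
      rfl
    · exfalso
      have h5 : f₁ * 3 = f * 6 := hfM
      obtain rfl : f₁ = f * 2 := by omega
      exact hn (mq_dvd' hs4 (by norm_num) (psl_mq le_rfl (hp.two_le.trans (Nat.le_self_pow (by omega) _)) hc))
  case psp m q =>
    exfalso
    obtain rfl : m = 2 := hO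
    obtain rfl : q = p ^ f₁ := hfl
    have h5 : f₁ * (2 * 2) = f * 6 := hfM
    have h6 : Nat.gcd 2 (p ^ f₁ - 1) * c = (p ^ f₁) ^ (2 ^ 2) * prB (p ^ f₁) 2 := hc
    have e1 : (p ^ f₁) ^ 2 = (p ^ f) ^ 3 := sq_eq (k := 1) (by omega)
    have e2 : (p ^ f₁) ^ 4 = (p ^ f) ^ 6 := sq_eq (k := 2) (by omega)
    have h7 : prB (p ^ f₁) 2 = ((p ^ f₁) ^ 2 - 1) * ((p ^ f₁) ^ 4 - 1) := by
      rw [prB_eq, Finset.prod_range_succ, Finset.prod_range_succ, Finset.prod_range_zero]
      norm_num only [one_mul]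
    rw [h7, e1, e2] at h6
    exact cancel_prime ht3.prime b6 hc0 h6 hd (ht3.dvd dvd_rfl) (fun h => ht3.not_dvd_two le_rfl
      (h.trans (Nat.gcd_dvd_left _ _))) (ht3.not_dvd_pow _) (ht3.not_dvd_sub (by norm_num))
  case psu m q =>
    have hO' : m = 3 ∨ m = 4 ∨ m = 5 := hO
    obtain rfl : q = p ^ f₁ := hfl
    rcases hO' with rfl | rfl | rfl
    · right; right; left
      have h5 : f₁ * 6 = f * 6 := hfM
      obtain rfl : f₁ = f := by omega
      rfl
    · exfalso
      have h5 : f₁ * 6 = f * 6 := hfM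
      obtain rfl : f₁ = f := by omega
      obtain ⟨r, hr⟩ := exists_prim (q := p) (e := f₁ * 4) hp.two_le (by omega) (by omega)
      have h6 : r ∣ c := hK.has (show 3 ≤ 4 ∧ ((4 ≤ 4 ∧ 4 % 2 = 0) ∨ ∃ j, 4 = 2 * j ∧ j ≤ 4 ∧ j % 2 = 1) from
        ⟨by norm_num, Or.inl ⟨le_rfl, rfl⟩⟩) (by omega) hr
      exact not_dvd_g2 (prim_pow hf hr) (Or.inl rfl) (h6.trans hdvd)
    · exfalso
      have h5 : f₁ * 10 = f * 6 := hfM
      obtain ⟨k, rfl⟩ : ∃ k, f = 5 * k := ⟨f / 5, by omega⟩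
      obtain rfl : f₁ = 3 * k := by omega
      obtain ⟨r, hr⟩ := exists_prim (q := p) (e := 3 * k * 4) hp.two_le (by omega) (by omega)
      have h6 : r ∣ c := hK.has (show 3 ≤ 4 ∧ ((4 ≤ 5 ∧ 4 % 2 = 0) ∨ ∃ j, 4 = 2 * j ∧ j ≤ 5 ∧ j % 2 = 1) from
        ⟨by norm_num, Or.inl ⟨by norm_num, rfl⟩⟩) (by omega) hr
      have h7 := Cfsg.Agent.H425.Chr.prim_quot (f := 5 * k) (by omega) hr
      have h8 : 3 * k * 4 / Nat.gcd (3 * k * 4) (5 * k) = 12 := by
        rw [show 3 * k * 4 = 12 * k by ring, Nat.gcd_mul_right, Nat.mul_div_mul_right _ _ (by omega)]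
        norm_num
      rw [h8] at h7
      exact not_dvd_g2 h7 (Or.inr rfl) (h6.trans hdvd)
  case g2 q =>
    left
    obtain rfl : q = p ^ f₁ := hfl
    rw [same_fld (M := 6) (by norm_num) hfM]
  case td4 q =>
    exfalso
    obtain rfl : q = p ^ f₁ := hfl
    have h5 : f₁ * 12 = f * 6 := hfM
    obtain rfl : f = f₁ * 2 := by omega
    have h6 : 1 * c = (p ^ f₁) ^ 12 * (((p ^ f₁) ^ 2 - 1) * ((p ^ f₁) ^ 6 - 1) * ((p ^ f₁) ^ 8 + (p ^ f₁) ^ 4 + 1)) := hc
    have e1 : (p ^ f₁) ^ 2 = p ^ (f₁ * 2) := by rw [pow_mul]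
    have e2 : (p ^ f₁) ^ 6 = (p ^ (f₁ * 2)) ^ 3 := by rw [← pow_mul, ← pow_mul]; congr 1; ring
    have e3 : (p ^ f₁) ^ 8 = (p ^ (f₁ * 2)) ^ 4 := by rw [← pow_mul, ← pow_mul]; congr 1; ring
    have e4 : (p ^ f₁) ^ 4 = (p ^ (f₁ * 2)) ^ 2 := by rw [← pow_mul, ← pow_mul]; congr 1; ring
    rw [e1, e2, e3, e4] at h6
    generalize p ^ (f₁ * 2) = Q at *
    have h7 : Q ^ 2 - 1 = (Q + 1) * (Q - 1) := by
      have := Nat.sq_sub_sq Q 1
      rwa [one_pow] at this
    have h8 : Q ^ 6 - 1 = (Q ^ 3 + 1) * (Q ^ 3 - 1) := by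
      have := Nat.sq_sub_sq (Q ^ 3) 1
      rwa [one_pow, ← pow_mul] at this
    have h9 : Q ^ 6 - 1 = (Q ^ 4 + Q ^ 2 + 1) * (Q ^ 2 - 1) := by
      obtain ⟨a, ha⟩ : ∃ a, Q ^ 2 = a + 1 := ⟨Q ^ 2 - 1, by omega⟩
      have h10 : Q ^ 6 = (a + 1) ^ 3 := by rw [← ha]; ring
      have h11 : Q ^ 4 = (a + 1) ^ 2 := by rw [← ha]; ring
      rw [h10, h11, ha, Nat.add_sub_cancel]
      have : (a + 1) ^ 3 = ((a + 1) ^ 2 + (a + 1) + 1) * a + 1 := by ring
      omega
    refine cancel_prime ht3.prime (Z := (Q - 1) * (Q ^ 3 - 1)) (by positivity) hc0 (D := 1)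
      (A := (p ^ f₁) ^ 12) (x := Q ^ 4 + Q ^ 2 + 1) (B := Q ^ 6) (y := (Q + 1) * (Q ^ 3 + 1)) ?_ ?_ ?_
      (fun h => ?_) (ht3.not_dvd_pow _) (fun h => ?_)
    · rw [h6]; ring
    · refine hd.trans (dvd_of_eq ?_)
      rw [h7, h8]; ring
    · have h12 : t ∣ Q ^ 6 - 1 := ht3.dvd (by norm_num)
      rw [h9] at h12
      exact (ht3.prime.dvd_mul.1 h12).resolve_right (ht3.not_dvd_sub (by norm_num))
    · exact ht3.prime.one_lt.ne' (Nat.dvd_one.1 h)
    · rcases ht3.prime.dvd_mul.1 h with h | h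
      · exact ht3.not_dvd_qadd le_rfl h
      · exact not_dvd_add_odd ht3 rfl (by norm_num) 3 h
  case tf4 q =>
    right; right; right; right
    obtain rfl : q = p ^ f₁ := hfl
    have h5 : f₁ * 12 = f * 6 := hfM
    obtain rfl : f = 2 * f₁ := by omega
    obtain ⟨m, hm, hqm⟩ : ∃ m, 1 ≤ m ∧ p ^ f₁ = 2 ^ (2 * m + 1) := hg
    have hp2 : p = 2 := by
      have h4 : p ∣ 2 ^ (2 * m + 1) := by
        rw [← hqm]
        exact dvd_pow_self p (by omega)
      exact (Nat.prime_dvd_prime_iff_eq hp Nat.prime_two).1 (hp.dvd_of_dvd_pow h4)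
    exact ⟨hp2, f₁, rfl, Or.inl rfl⟩
  case sz q =>
    right; right; right; right
    obtain rfl : q = p ^ f₁ := hfl
    have h5 : f₁ * 4 = f * 6 := hfM
    obtain ⟨m, hm, hqm⟩ : ∃ m, 1 ≤ m ∧ p ^ f₁ = 2 ^ (2 * m + 1) := hg
    have hp2 : p = 2 := by
      have h4 : p ∣ 2 ^ (2 * m + 1) := by
        rw [← hqm]
        exact dvd_pow_self p (by omega)
      exact (Nat.prime_dvd_prime_iff_eq hp Nat.prime_two).1 (hp.dvd_of_dvd_pow h4)
    obtain ⟨k, rfl⟩ : ∃ k, f = 2 * k := ⟨f / 2, by omega⟩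
    obtain rfl : f₁ = 3 * k := by omega
    exact ⟨hp2, k, rfl, Or.inr rfl⟩
  case ree q =>
    right; right; right; left
    obtain rfl : q = p ^ f₁ := hfl
    have h5 : f₁ * 6 = f * 6 := hfM
    obtain rfl : f₁ = f := by omega
    obtain ⟨m, hm, hqm⟩ : ∃ m, 1 ≤ m ∧ p ^ f₁ = 3 ^ (2 * m + 1) := hg
    have hp3 : p = 3 := by
      have h4 : p ∣ 3 ^ (2 * m + 1) := by
        rw [← hqm]
        exact dvd_pow_self p (by omega)
      exact (Nat.prime_dvd_prime_iff_eq hp Nat.prime_three).1 (hp.dvd_of_dvd_pow h4)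
    exact ⟨hp3, rfl⟩
  all_goals exact absurd hO not_false

end Cfsg.Agent.H394.Wei
end

-- part: H244/G2S/Char3
section
set_option linter.all false
open scoped Cfsg.Agent.FastGrp

/-!
# `G_2(q)`, the class of tori of order `q² + q + 1`, the same characteristic (helper244)

`charp_g2_3` : the simple groups of Lie type in characteristic `p ≠ 3` whose order divides `|G_2(q)|`, `q ≥ 5`, and is
divisible by the primes of order 3 modulo `q` (after helper325's `charp_g2`, helper394's `charp_g2_6`).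
-/

set_option autoImplicit false

namespace Cfsg.Agent.H244.G2S

open Cfsg.Agent.OrdDiv Cfsg.Agent.H436 Cfsg.Agent.H915.GN Cfsg.Agent.H264.GN Cfsg.Agent.H264.FKS Cfsg.Agent.H325.Same

variable {p f c : ℕ} {g : Grp}

/-- candidates with the exponent `3 f` -/
def OutB : Grp → Prop
  | .psl m _ => m = 2 ∨ m = 3 ∨ m = 4 ∨ m = 5
  | .psp m _ => m = 2 ∨ m = 3 ∨ m = 4
  | .psu m _ => 3 ≤ m ∧ m ≤ 9
  | .oodd m _ => m = 3 ∨ m = 4
  | .oplus m _ => m = 4
  | .ominus m _ => m = 4 ∨ m = 5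
  | .g2 _ => True
  | .f4 _ => True
  | .te6 _ => True
  | .td4 _ => True
  | .tf4 _ => True
  | .sz _ => True
  | .ree _ => True
  | _ => False

theorem elimB (hg : Cond g) (hch : HasChar p g) (h2 : 2 * ag g ≤ 4 * Mg g) : OutB g := by
  cases g
  case psl m q =>
    obtain ⟨hm, -, -⟩ := hg
    have hb := bd_psl (ρ := 4) (by omega) h2
    show m = 2 ∨ m = 3 ∨ m = 4 ∨ m = 5
    omega
  case psp m q =>
    obtain ⟨hm, -, -⟩ := hg
    have hb := bd_psp (ρ := 4) (by omega) h2
    show m = 2 ∨ m = 3 ∨ m = 4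
    omega
  case psu m q =>
    obtain ⟨hm, -, -⟩ := hg
    have hb := bd_psu (ρ := 4) hm h2
    show 3 ≤ m ∧ m ≤ 9
    omega
  case oodd m q =>
    obtain ⟨hm, -, -⟩ := hg
    have hb := bd_psp (ρ := 4) (by omega) h2
    show m = 3 ∨ m = 4
    omega
  case oplus m q =>
    obtain ⟨hm, -⟩ := hg
    have hb := bd_oplus (ρ := 4) (by omega) h2
    show m = 4
    omega
  case ominus m q =>
    obtain ⟨hm, -⟩ := hg
    have hb := bd_ominus (ρ := 4) (by omega) h2
    show m = 4 ∨ m = 5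
    omega
  case g2 q => exact trivial
  case td4 q => exact trivial
  case tf4 q => exact trivial
  case sz q => exact trivial
  case ree q => exact trivial
  case f4 q => exact trivial
  case te6 q => exact trivial
  case e6 q =>
    have h : 2 * 36 ≤ 4 * 12 := h2
    omega
  case e7 q =>
    have h : 2 * 63 ≤ 4 * 18 := h2
    omega
  case e8 q =>
    have h : 2 * 120 ≤ 4 * 30 := h2
    omega
  all_goals exact absurd hch not_false

/-- an order of powers -/
theorem prim_of_coprime {q r n : ℕ} (h : Prim q 3 r) (hn : Nat.Coprime 3 n) : Prim (q ^ n) 3 r := by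
  refine ⟨h.prime, fun m => ?_, h.not_dvd_pow _⟩
  rw [← pow_mul, h.dvd_iff]
  exact ⟨fun hd => hn.dvd_of_dvd_mul_left hd, fun hd => hd.mul_left _⟩

/-- a number dividing too little -/
theorem aux1 {Q D n k : ℕ} (hQ : 2 ≤ Q) (h : Q ^ 2 - 1 ∣ D * Q ^ n * (Q ^ (2 * k) + 1)) : Q ^ 2 - 1 ∣ D * 2 := by
  have h1 : 1 ≤ Q ^ 2 := Nat.one_le_pow _ _ (by omega)
  have h2 : Q ^ 2 ≡ 1 [MOD Q ^ 2 - 1] := (Nat.modEq_iff_dvd' h1).2 dvd_rfl |>.symm
  have h3 : Q ^ (2 * k) + 1 ≡ 2 [MOD Q ^ 2 - 1] := by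
    rw [pow_mul]
    have h4 := (h2.pow k).add_right 1
    rwa [one_pow] at h4
  have h4 : D * Q ^ n * 2 ≡ 0 [MOD Q ^ 2 - 1] := (h3.mul_left _).symm.trans ((Nat.modEq_zero_iff_dvd).2 h)
  have h5 : Q ^ 2 - 1 ∣ Q ^ n * (D * 2) := by
    rw [Nat.modEq_zero_iff_dvd] at h4
    refine h4.trans (dvd_of_eq (by ring))
  refine Nat.Coprime.dvd_of_dvd_mul_left ?_ h5
  apply Nat.Coprime.pow_right
  have h6 : Nat.Coprime (Q ^ 2 - 1) (Q ^ 2) := by
    have : Nat.Coprime (Q ^ 2 - 1) (Q ^ 2 - 1 + 1) := Nat.coprime_self_add_right.2 (Nat.coprime_one_right _)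
    rwa [Nat.sub_add_cancel h1] at this
  exact (Nat.coprime_pow_right_iff (by norm_num) _ _).1 h6

theorem aux2 {Q D : ℕ} (hQ : 2 ≤ Q) (hQ3 : Q ≠ 3) (hD : D ∣ 4) (h : Q ^ 2 - 1 ∣ D * 2) : False := by
  have h1 : Q ^ 2 - 1 ∣ 8 := h.trans (Nat.mul_dvd_mul_right hD 2)
  have h2 := Nat.le_of_dvd (by norm_num) h1
  have h3 : Q ≤ 3 := by
    by_contra hcon
    have : 4 * 4 ≤ Q * Q := Nat.mul_le_mul (by omega) (by omega)
    rw [sq] at h2
    omega
  interval_cases Q
  · norm_num at h1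
  · exact hQ3 rfl

theorem ne_three (hp : p.Prime) (hp3 : p ≠ 3) {k : ℕ} : p ^ k ≠ 3 := by
  intro h
  rcases Nat.eq_zero_or_pos k with rfl | hk
  · simp at h
  · have h1 : p ∣ 3 := by
      rw [← h]
      exact dvd_pow_self p (by omega)
    exact hp3 ((Nat.prime_dvd_prime_iff_eq hp Nat.prime_three).1 h1)

theorem prB_three (q : ℕ) : prB q 3 = (q ^ 2 - 1) * ((q ^ 4 - 1) * (q ^ 6 - 1)) := by
  rw [prB_eq, Finset.prod_range_succ, Finset.prod_range_succ, Finset.prod_range_succ, Finset.prod_range_zero]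
  norm_num only [one_mul]
  ring

theorem sq_sub (x : ℕ) : x ^ 2 - 1 = (x + 1) * (x - 1) := by
  have := Nat.sq_sub_sq x 1
  rwa [one_pow] at this

theorem prB_two (q : ℕ) : prB q 2 = (q ^ 2 - 1) * (q ^ 4 - 1) := by
  rw [prB_eq, Finset.prod_range_succ, Finset.prod_range_succ, Finset.prod_range_zero]
  norm_num only [one_mul]

/-- **`G_2(q)`, `q ≥ 5`, `3 ∤ q`, class 3.** -/
theorem charp_g2_3 (hp : p.Prime) (hf : 1 ≤ f) (h5 : 5 ≤ p ^ f) (hp3 : p ≠ 3) (hg : Cond g) (hch : HasChar p g)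
    (hc : den g * c = num g) (hdvd : c ∣ num (.g2 (p ^ f))) (hs3 : ∀ s, Prim (p ^ f) 3 s → s ∣ c) :
    g = .psl 3 (p ^ f) ∨ g = .g2 (p ^ f) ∨ g = .psl 2 (p ^ (3 * f)) ∨
      (∃ h, f = 2 * h ∧ (g = .psl 2 (p ^ (3 * h)) ∨ g = .g2 (p ^ h))) ∨ (p = 2 ∧ f = 4 ∧ g = .sz 8) := by
  obtain ⟨f₁, hf₁, hfl, hK, hY⟩ := kd_all hp hg hch hc
  have hT := td_g2 hp hf hdvd
  have hM2 := two_le_Mg hg hch
  have hf3 : p = 2 → 3 ≤ f := by
    rintro rfl
    by_contra hcon
    have : f = 1 ∨ f = 2 := by omega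
    rcases this with rfl | rfl <;> norm_num at h5
  have hXT : ∀ i, Xg (.g2 (p ^ f)) i → f * i ∣ 6 * f := by
    intro i hi
    have hi' : i ∈ [2, 6] := hi
    simp only [List.mem_cons, List.not_mem_nil, or_false] at hi'
    rcases hi' with rfl | rfl
    · exact ⟨3, by ring⟩
    · exact ⟨1, by ring⟩
  have hYd : ∀ e, Yg g e → 3 ≤ f₁ * e → ¬ (p = 2 ∧ f₁ * e = 6) → f₁ * e ∣ 6 * f := by
    intro e he h3 h6
    obtain ⟨t, ht⟩ := exists_prim hp.two_le h3 h6
    obtain ⟨i, hi, hi2⟩ := hT.exp ht (hK.has he h3 ht)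
    exact hi2.trans (hXT i hi)
  have hle : f * 3 ≤ f₁ * Mg g := by
    obtain ⟨s, hs⟩ := exists_prim (q := p) (e := f * 3) hp.two_le (by omega) (by
      rintro ⟨h2, h6⟩
      have := hf3 h2
      omega)
    obtain ⟨x, hx, hx2⟩ := hK.exp hs (hs3 s (prim_pow hf hs))
    have hx3 := hK.le hx
    exact (Nat.le_of_dvd (Nat.mul_pos (by omega) (by omega)) hx2).trans (Nat.mul_le_mul_left _ hx3.2)
  have hMd := hYd _ hY (by omega) (by
    rintro ⟨h2, h6⟩
    have := hf3 h2
    omega)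
  have hcases : f₁ * Mg g = f * 3 ∨ f₁ * Mg g = f * 6 := by
    obtain ⟨k, hk⟩ := hMd
    have hk0 : k ≠ 0 := by
      rintro rfl
      omega
    have hk2 : k ≤ 2 := by
      by_contra hcon
      have : f * 3 * 3 ≤ f₁ * Mg g * k := Nat.mul_le_mul hle (by omega)
      omega
    have : k = 1 ∨ k = 2 := by omega
    rcases this with rfl | rfl
    · right; omega
    · left; omega
  have hpp : f₁ * ag g ≤ f * 6 := hT.pp hK.pp
  have hq : 2 ≤ p ^ f := by omega
  have hr3 : ∀ r, Prim (p ^ f) 3 r → r ∣ num g := fun r hr => by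
    rw [← hc]
    exact (hs3 r hr).mul_left _
  rcases hcases with hfM | hfM
  · -- the exponent `3 f`
    have hO : OutB g := by
      apply elimB hg hch
      have h1 : f₁ * (2 * ag g) ≤ f₁ * (4 * Mg g) := by
        calc f₁ * (2 * ag g) = 2 * (f₁ * ag g) := by ring
          _ ≤ 2 * (f * 6) := by omega
          _ = 4 * (f * 3) := by ring
          _ = 4 * (f₁ * Mg g) := by rw [hfM]
          _ = f₁ * (4 * Mg g) := by ring
      exact Nat.le_of_mul_le_mul_left h1 (by omega)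
    have hd : c ∣ (p ^ f) ^ 6 * (((p ^ f) ^ 2 - 1) * ((p ^ f) ^ 6 - 1)) := hdvd
    have b2 := sub_pos' (d := 2) hq (by norm_num)
    have b6 := sub_pos' (d := 6) hq (by norm_num)
    have hc0 : 0 < c := pos_of_dvd (by (clear * - h5 b2 b6; positivity)) hd
    cases g
    case psl m q =>
      have hO' : m = 2 ∨ m = 3 ∨ m = 4 ∨ m = 5 := hO
      obtain rfl : q = p ^ f₁ := hfl
      rcases hO' with rfl | rfl | rfl | rfl
      · right; right; right; left
        have h6 : f₁ * 2 = f * 3 := hfM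
        obtain ⟨h, rfl⟩ : ∃ h, f = 2 * h := ⟨f / 2, by omega⟩
        obtain rfl : f₁ = 3 * h := by omega
        exact ⟨h, rfl, Or.inl rfl⟩
      · left
        have h6 : f₁ * 3 = f * 3 := hfM
        rw [same_fld (M := 3) (by norm_num) h6]
      · exfalso
        have h6 : f₁ * 4 = f * 3 := hfM
        obtain ⟨k, rfl⟩ : ∃ k, f = 4 * k := ⟨f / 4, by omega⟩
        obtain rfl : f₁ = 3 * k := by omega
        have h7 := hYd 3 (show 2 ≤ 3 ∧ 3 ≤ 4 by norm_num) (by omega) (by omega)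
        obtain ⟨j, hj⟩ := h7
        have : k * 24 = k * (9 * j) := by linarith only [hj]
        have := Nat.eq_of_mul_eq_mul_left (by omega) this
        omega
      · exfalso
        have h6 : f₁ * 5 = f * 3 := hfM
        obtain ⟨k, rfl⟩ : ∃ k, f = 5 * k := ⟨f / 5, by (clear * - h6; omega)⟩
        obtain rfl : f₁ = 3 * k := by omega
        obtain ⟨j, hj⟩ := hYd 4 (show 2 ≤ 4 ∧ 4 ≤ 5 by norm_num) (by omega) (by omega)
        have : k * 30 = k * (12 * j) := by linarith only [hj]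
        have := Nat.eq_of_mul_eq_mul_left (by omega) this
        omega
    case psp m q =>
      exfalso
      have hO' : m = 2 ∨ m = 3 ∨ m = 4 := hO
      obtain rfl : q = p ^ f₁ := hfl
      rcases hO' with rfl | rfl | rfl
      · have h6 : f₁ * (2 * 2) = f * 3 := hfM
        obtain ⟨k, rfl⟩ : ∃ k, f = 4 * k := ⟨f / 4, by omega⟩
        obtain rfl : f₁ = 3 * k := by omega
        have hR : 2 ≤ p ^ k := hp.two_le.trans (Nat.le_self_pow (by omega) _)
        obtain ⟨t, ht⟩ := exists_prim (q := p ^ k) (e := 3) hR (by norm_num) (by omega)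
        have h7 : Nat.gcd 2 (p ^ (3 * k) - 1) * c = (p ^ (3 * k)) ^ (2 ^ 2) * prB (p ^ (3 * k)) 2 := hc
        have e1 : p ^ (3 * k) = (p ^ k) ^ 3 := by rw [← pow_mul]; congr 1; ring
        have e2 : p ^ (4 * k) = (p ^ k) ^ 4 := by rw [← pow_mul]; congr 1; ring
        rw [prB_two, e1] at h7
        rw [e2] at hd
        generalize p ^ k = R at *
        have b12 := sub_pos' (d := 12) hR (by norm_num)
        refine cancel_prime ht.prime (Z := R ^ 12 - 1) b12 hc0 (D := Nat.gcd 2 (R ^ 3 - 1))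
          (A := (R ^ 3) ^ (2 ^ 2)) (x := R ^ 6 - 1) (B := (R ^ 4) ^ 6) (y := (R ^ 8 - 1) * (R ^ 12 + 1)) ?_ ?_ ?_
          (fun h => ?_) (fun h => ?_) (fun h => ?_)
        · rw [h7, ← pow_mul R 3 2, ← pow_mul R 3 4]
        · refine hd.trans (dvd_of_eq ?_)
          have h8 := sq_sub (R ^ 12)
          rw [← pow_mul] at h8
          rw [← pow_mul R 4 2, ← pow_mul R 4 6, h8]
          ring
        · exact ht.dvd (by norm_num)
        · exact ht.not_dvd_two le_rfl (h.trans (Nat.gcd_dvd_left _ _))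
        · rw [← pow_mul] at h
          exact ht.not_dvd_pow _ h
        · rcases ht.prime.dvd_mul.1 h with h | h
          · exact ht.not_dvd_sub (by norm_num) h
          · exact not_dvd_add_odd ht rfl (by norm_num) 12 h
      · have h6 : f₁ * (2 * 3) = f * 3 := hfM
        obtain rfl : f = f₁ * 2 := by omega
        have hR : 2 ≤ p ^ f₁ := hp.two_le.trans (Nat.le_self_pow (by omega) _)
        have hR3 : p ^ f₁ ≠ 3 := ne_three hp hp3
        have h7 : Nat.gcd 2 (p ^ f₁ - 1) * c = (p ^ f₁) ^ (3 ^ 2) * prB (p ^ f₁) 3 := hc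
        rw [prB_three] at h7
        rw [pow_mul p f₁ 2] at hd
        generalize p ^ f₁ = R at *
        have b4 := sub_pos' (d := 4) hR (by norm_num)
        have b6' := sub_pos' (d := 6) hR (by norm_num)
        have h8 := sq_sub (R ^ 6)
        rw [← pow_mul] at h8
        have h9 := cancel_dvd (Z := (R ^ 4 - 1) * (R ^ 6 - 1)) (by (clear * - b4 b6'; positivity)) hc0 h7 (B := R ^ 12) (y := R ^ 6 + 1)
          (hd.trans (dvd_of_eq (by rw [show (R ^ 2) ^ 6 = R ^ 12 by ring, show (R ^ 2) ^ 2 = R ^ 4 by ring,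
            show R ^ 12 - 1 = R ^ (6 * 2) - 1 by norm_num, h8]; ring)))
        exact aux2 hR hR3 ((Nat.gcd_dvd_left _ _).trans (by norm_num)) (aux1 (k := 3) hR h9)
      · have h6 : f₁ * (2 * 4) = f * 3 := hfM
        obtain ⟨k, rfl⟩ : ∃ k, f = 8 * k := ⟨f / 8, by omega⟩
        obtain rfl : f₁ = 3 * k := by omega
        obtain ⟨j, hj⟩ := hYd 6 (show 1 ≤ 6 ∧ 6 ≤ 2 * 4 ∧ 2 ∣ 6 by norm_num) (by omega) (by omega)
        have : k * 48 = k * (18 * j) := by linarith only [hj]
        have := Nat.eq_of_mul_eq_mul_left (by omega) this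
        omega
    case psu m q =>
      exfalso
      have hO' : 3 ≤ m ∧ m ≤ 9 := hO
      obtain rfl : q = p ^ f₁ := hfl
      have hR : 2 ≤ p ^ f₁ := hp.two_le.trans (Nat.le_self_pow (by omega) _)
      obtain ⟨r, hr⟩ := exists_prim (q := p ^ f₁) (e := 3) hR (by norm_num) (by omega)
      have hY6 : 5 ≤ m → 3 ≤ f₁ * 6 → ¬ (p = 2 ∧ f₁ * 6 = 6) → f₁ * 6 ∣ 6 * f := fun h5 => hYd 6
        (show 3 ≤ 6 ∧ ((6 ≤ m ∧ 6 % 2 = 0) ∨ ∃ j, 6 = 2 * j ∧ j ≤ m ∧ j % 2 = 1) from
          ⟨by norm_num, Or.inr ⟨3, rfl, by omega, rfl⟩⟩)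
      obtain ⟨h3, h9⟩ := hO'
      have h6 : f₁ * (2 * (if m % 2 = 0 then m - 1 else m)) = f * 3 := hfM
      have hm : m = 3 ∨ m = 4 ∨ m = 5 ∨ m = 6 ∨ m = 7 ∨ m = 8 ∨ m = 9 := by (clear * - h3 h9; omega)
      rcases hm with rfl | rfl | rfl | rfl | rfl | rfl | rfl
      · simp only [Nat.reduceMod, if_false, one_ne_zero] at h6
        obtain rfl : f = f₁ * 2 := by omega
        have h7 := hr3 r (by rw [pow_mul]; exact prim_of_coprime hr (by norm_num))
        exact not_dvd_u (e := 3) hr rfl (by norm_num) (by norm_num) _ h7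
      · simp only [Nat.reduceMod, if_true, Nat.reduceSub] at h6
        obtain rfl : f = f₁ * 2 := by omega
        have h7 := hr3 r (by rw [pow_mul]; exact prim_of_coprime hr (by norm_num))
        exact not_dvd_u (e := 3) hr rfl (by norm_num) (by norm_num) _ h7
      · simp only [Nat.reduceMod, if_false, one_ne_zero] at h6
        obtain ⟨k, rfl⟩ : ∃ k, f = 10 * k := ⟨f / 10, by (clear * - h6; omega)⟩
        obtain rfl : f₁ = 3 * k := by omega
        obtain ⟨j, hj⟩ := hY6 (by norm_num) (by omega) (by omega)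
        have : k * 60 = k * (18 * j) := by linarith only [hj]
        have := Nat.eq_of_mul_eq_mul_left (by omega) this
        omega
      · simp only [Nat.reduceMod, if_true, Nat.reduceSub] at h6
        obtain ⟨k, rfl⟩ : ∃ k, f = 10 * k := ⟨f / 10, by (clear * - h6; omega)⟩
        obtain rfl : f₁ = 3 * k := by omega
        obtain ⟨j, hj⟩ := hY6 (by norm_num) (by omega) (by omega)
        have : k * 60 = k * (18 * j) := by linarith only [hj]
        have := Nat.eq_of_mul_eq_mul_left (by omega) this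
        omega
      · simp only [Nat.reduceMod, if_false, one_ne_zero] at h6
        obtain ⟨k, rfl⟩ : ∃ k, f = 14 * k := ⟨f / 14, by (clear * - h6; omega)⟩
        obtain rfl : f₁ = 3 * k := by omega
        obtain ⟨j, hj⟩ := hY6 (by norm_num) (by omega) (by omega)
        have : k * 84 = k * (18 * j) := by linarith only [hj]
        have := Nat.eq_of_mul_eq_mul_left (by omega) this
        omega
      · simp only [Nat.reduceMod, if_true, Nat.reduceSub] at h6
        obtain ⟨k, rfl⟩ : ∃ k, f = 14 * k := ⟨f / 14, by (clear * - h6; omega)⟩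
        obtain rfl : f₁ = 3 * k := by omega
        obtain ⟨j, hj⟩ := hY6 (by norm_num) (by omega) (by omega)
        have : k * 84 = k * (18 * j) := by linarith only [hj]
        have := Nat.eq_of_mul_eq_mul_left (by omega) this
        omega
      · simp only [Nat.reduceMod, if_false, one_ne_zero] at h6
        obtain rfl : f = f₁ * 6 := by omega
        obtain ⟨j, hj⟩ := hYd 14 (show 3 ≤ 14 ∧ ((14 ≤ 9 ∧ 14 % 2 = 0) ∨ ∃ j, 14 = 2 * j ∧ j ≤ 9 ∧ j % 2 = 1) from
          ⟨by norm_num, Or.inr ⟨7, rfl, by omega, rfl⟩⟩) (by omega) (by omega)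
        have : f₁ * 36 = f₁ * (14 * j) := by linarith only [hj]
        have := Nat.eq_of_mul_eq_mul_left (by omega) this
        omega
    case oodd m q =>
      exfalso
      have hO' : m = 3 ∨ m = 4 := hO
      obtain rfl : q = p ^ f₁ := hfl
      rcases hO' with rfl | rfl
      · have h6 : f₁ * (2 * 3) = f * 3 := hfM
        obtain rfl : f = f₁ * 2 := by omega
        have hR : 2 ≤ p ^ f₁ := hp.two_le.trans (Nat.le_self_pow (by omega) _)
        have hR3 : p ^ f₁ ≠ 3 := ne_three hp hp3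
        have h7 : 2 * c = (p ^ f₁) ^ (3 ^ 2) * prB (p ^ f₁) 3 := hc
        rw [prB_three] at h7
        rw [pow_mul p f₁ 2] at hd
        generalize p ^ f₁ = R at *
        have b4 := sub_pos' (d := 4) hR (by norm_num)
        have b6' := sub_pos' (d := 6) hR (by norm_num)
        have h8 := sq_sub (R ^ 6)
        rw [← pow_mul] at h8
        have h9 := cancel_dvd (Z := (R ^ 4 - 1) * (R ^ 6 - 1)) (by (clear * - b4 b6'; positivity)) hc0 h7 (B := R ^ 12) (y := R ^ 6 + 1)
          (hd.trans (dvd_of_eq (by rw [show (R ^ 2) ^ 6 = R ^ 12 by ring, show (R ^ 2) ^ 2 = R ^ 4 by ring,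
            show R ^ 12 - 1 = R ^ (6 * 2) - 1 by norm_num, h8]; ring)))
        exact aux2 hR hR3 (by norm_num) (aux1 (k := 3) hR h9)
      · have h6 : f₁ * (2 * 4) = f * 3 := hfM
        obtain ⟨k, rfl⟩ : ∃ k, f = 8 * k := ⟨f / 8, by omega⟩
        obtain rfl : f₁ = 3 * k := by omega
        obtain ⟨j, hj⟩ := hYd 6 (show 1 ≤ 6 ∧ 6 ≤ 2 * 4 ∧ 2 ∣ 6 by norm_num) (by omega) (by omega)
        have : k * 48 = k * (18 * j) := by linarith only [hj]
        have := Nat.eq_of_mul_eq_mul_left (by omega) this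
        omega
    case oplus m q =>
      exfalso
      obtain rfl : m = 4 := hO
      obtain rfl : q = p ^ f₁ := hfl
      have h6 : f₁ * (2 * (4 - 1)) = f * 3 := hfM
      obtain rfl : f = f₁ * 2 := by omega
      have hR : 2 ≤ p ^ f₁ := hp.two_le.trans (Nat.le_self_pow (by omega) _)
      have hR3 : p ^ f₁ ≠ 3 := ne_three hp hp3
      have h7 : Nat.gcd 4 ((p ^ f₁) ^ 4 - 1) * c = (p ^ f₁) ^ (4 * (4 - 1)) * (((p ^ f₁) ^ 4 - 1) * prB (p ^ f₁) 3) := hc
      rw [prB_three] at h7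
      rw [pow_mul p f₁ 2] at hd
      generalize p ^ f₁ = R at *
      have b4 := sub_pos' (d := 4) hR (by norm_num)
      have b6' := sub_pos' (d := 6) hR (by norm_num)
      have h8 := sq_sub (R ^ 6)
      rw [← pow_mul] at h8
      have h9 := cancel_dvd (Z := (R ^ 4 - 1) * (R ^ 6 - 1)) (by (clear * - b4 b6'; positivity)) hc0 (D := Nat.gcd 4 (R ^ 4 - 1))
        (A := R ^ (4 * (4 - 1)) * (R ^ 4 - 1)) (x := R ^ 2 - 1) (by rw [h7, mul_assoc]) (B := R ^ 12) (y := R ^ 6 + 1)
        (hd.trans (dvd_of_eq (by rw [show (R ^ 2) ^ 6 = R ^ 12 by ring, show (R ^ 2) ^ 2 = R ^ 4 by ring,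
          show R ^ 12 - 1 = R ^ (6 * 2) - 1 by norm_num, h8]; ring)))
      exact aux2 hR hR3 (Nat.gcd_dvd_left _ _) (aux1 (k := 3) hR h9)
    case ominus m q =>
      exfalso
      have hO' : m = 4 ∨ m = 5 := hO
      obtain rfl : q = p ^ f₁ := hfl
      rcases hO' with rfl | rfl
      · have h6 : f₁ * (2 * 4) = f * 3 := hfM
        obtain ⟨k, rfl⟩ : ∃ k, f = 8 * k := ⟨f / 8, by (clear * - h6; omega)⟩
        obtain rfl : f₁ = 3 * k := by omega
        obtain ⟨j, hj⟩ := hYd 6 (show 4 ≤ 6 ∧ 6 ≤ 2 * 4 ∧ 2 ∣ 6 by norm_num) (by omega) (by omega)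
        have : k * 48 = k * (18 * j) := by linarith only [hj]
        have := Nat.eq_of_mul_eq_mul_left (by omega) this
        omega
      · have h6 : f₁ * (2 * 5) = f * 3 := hfM
        obtain ⟨k, rfl⟩ : ∃ k, f = 10 * k := ⟨f / 10, by (clear * - h6; omega)⟩
        obtain rfl : f₁ = 3 * k := by omega
        obtain ⟨j, hj⟩ := hYd 8 (show 4 ≤ 8 ∧ 8 ≤ 2 * 5 ∧ 2 ∣ 8 by norm_num) (by omega) (by omega)
        have : k * 60 = k * (24 * j) := by linarith only [hj]
        have := Nat.eq_of_mul_eq_mul_left (by omega) this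
        omega
    case g2 q =>
      right; right; right; left
      obtain rfl : q = p ^ f₁ := hfl
      have h6 : f₁ * 6 = f * 3 := hfM
      exact ⟨f₁, by omega, Or.inr rfl⟩
    case f4 q =>
      exfalso
      obtain rfl : q = p ^ f₁ := hfl
      have h6 : f₁ * 12 = f * 3 := hfM
      obtain rfl : f = f₁ * 4 := by omega
      have hR : 2 ≤ p ^ f₁ := hp.two_le.trans (Nat.le_self_pow (by omega) _)
      have hR3 : p ^ f₁ ≠ 3 := ne_three hp hp3
      have h7 : 1 * c = (p ^ f₁) ^ 24 * (((p ^ f₁) ^ 2 - 1) * ((p ^ f₁) ^ 6 - 1) * ((p ^ f₁) ^ 8 - 1) *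
        ((p ^ f₁) ^ 12 - 1)) := hc
      rw [pow_mul p f₁ 4] at hd
      generalize p ^ f₁ = R at *
      have b8 := sub_pos' (d := 8) hR (by norm_num)
      have b12 := sub_pos' (d := 12) hR (by norm_num)
      have h8 := sq_sub (R ^ 12)
      rw [← pow_mul] at h8
      have h9 := cancel_dvd (Z := (R ^ 8 - 1) * (R ^ 12 - 1)) (by (clear * - b8 b12; positivity)) hc0 (D := 1)
        (A := R ^ 24 * (R ^ 6 - 1)) (x := R ^ 2 - 1) (by rw [h7]; ring) (B := R ^ 24) (y := R ^ 12 + 1)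
        (hd.trans (dvd_of_eq (by rw [← pow_mul R 4 6, ← pow_mul R 4 2, h8]; ring)))
      exact aux2 hR hR3 (by norm_num) (aux1 (k := 6) hR h9)
    case te6 q =>
      exfalso
      obtain rfl : q = p ^ f₁ := hfl
      have h6 : f₁ * 18 = f * 3 := hfM
      obtain rfl : f = f₁ * 6 := by omega
      obtain ⟨j, hj⟩ := hYd 10 (show 10 ∈ [2, 3, 4, 6, 8, 10, 12, 18] by norm_num) (by omega) (by omega)
      have : f₁ * 36 = f₁ * (10 * j) := by linarith only [hj]
      have := Nat.eq_of_mul_eq_mul_left (by omega) this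
      omega
    case td4 q =>
      exfalso
      obtain rfl : q = p ^ f₁ := hfl
      have h6 : f₁ * 12 = f * 3 := hfM
      obtain rfl : f = f₁ * 4 := by omega
      have hR : 2 ≤ p ^ f₁ := hp.two_le.trans (Nat.le_self_pow (by omega) _)
      have h7 : 1 * c = (p ^ f₁) ^ 12 * (((p ^ f₁) ^ 2 - 1) * ((p ^ f₁) ^ 6 - 1) * ((p ^ f₁) ^ 8 + (p ^ f₁) ^ 4 + 1)) := hc
      obtain ⟨t, ht⟩ := exists_prim (q := p ^ f₁) (e := 3) hR (by norm_num) (by omega)
      rw [pow_mul p f₁ 4] at hd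
      generalize p ^ f₁ = R at *
      have h8 := sq_sub (R ^ 12)
      rw [← pow_mul] at h8
      have h9 : R ^ 12 - 1 = (R ^ 8 + R ^ 4 + 1) * (R ^ 4 - 1) := by
        obtain ⟨a, ha⟩ : ∃ a, R ^ 4 = a + 1 := ⟨R ^ 4 - 1, by
          have : 1 ≤ R ^ 4 := Nat.one_le_pow _ _ (by omega)
          omega⟩
        have h10 : R ^ 12 = (a + 1) ^ 3 := by rw [← ha]; ring
        have h11 : R ^ 8 = (a + 1) ^ 2 := by rw [← ha]; ring
        rw [h10, h11, ha, Nat.add_sub_cancel]
        apply Nat.sub_eq_of_eq_add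
        ring
      refine cancel_prime ht.prime (Z := R ^ 8 + R ^ 4 + 1) (by (clear * - hR; positivity)) hc0 (D := 1)
        (A := R ^ 12 * (R ^ 2 - 1)) (x := R ^ 6 - 1) (B := (R ^ 4) ^ 6) (y := (R ^ 8 - 1) * ((R ^ 4 - 1) * (R ^ 12 + 1)))
        ?_ ?_ ?_ (fun h => ?_) (fun h => ?_) (fun h => ?_)
      · rw [h7]; ring
      · refine hd.trans (dvd_of_eq ?_)
        rw [← pow_mul R 4 2, ← pow_mul R 4 6, show 4 * 6 = 12 * 2 by norm_num, h8, h9]
        ring
      · exact ht.dvd (by norm_num)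
      · exact ht.prime.one_lt.ne' (Nat.dvd_one.1 h)
      · rw [← pow_mul] at h
        exact ht.not_dvd_pow _ h
      · rcases ht.prime.dvd_mul.1 h with h | h
        · exact ht.not_dvd_sub (by norm_num) h
        · rcases ht.prime.dvd_mul.1 h with h | h
          · exact ht.not_dvd_sub (by norm_num) h
          · exact not_dvd_add_odd ht rfl (by norm_num) 12 h
    case tf4 q =>
      exfalso
      obtain rfl : q = p ^ f₁ := hfl
      have h6 : f₁ * 12 = f * 3 := hfM
      obtain rfl : f = f₁ * 4 := by omega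
      have hR : 2 ≤ p ^ f₁ := hp.two_le.trans (Nat.le_self_pow (by omega) _)
      obtain ⟨r, hr⟩ := exists_prim (q := p ^ f₁) (e := 3) hR (by norm_num) (by omega)
      have h7 := hr3 r (by rw [pow_mul]; exact prim_of_coprime hr (by norm_num))
      exact not_dvd_tf4 hr h7
    case sz q =>
      obtain rfl : q = p ^ f₁ := hfl
      have h6 : f₁ * 4 = f * 3 := hfM
      obtain ⟨m, hm, hqm⟩ : ∃ m, 1 ≤ m ∧ p ^ f₁ = 2 ^ (2 * m + 1) := hg
      have hp2 : p = 2 := by
        have h4 : p ∣ 2 ^ (2 * m + 1) := by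
          rw [← hqm]
          exact dvd_pow_self p (by omega)
        exact (Nat.prime_dvd_prime_iff_eq hp Nat.prime_two).1 (hp.dvd_of_dvd_pow h4)
      subst hp2
      obtain ⟨k, rfl⟩ : ∃ k, f = 4 * k := ⟨f / 4, by omega⟩
      obtain rfl : f₁ = 3 * k := by omega
      by_cases hk1 : k = 1
      · subst hk1
        right; right; right; right
        exact ⟨rfl, rfl, rfl⟩
      · exfalso
        obtain ⟨r, hr⟩ := exists_prim (q := 2) (e := 6 * k) le_rfl (by omega) (by omega)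
        have hr2 : Prim (2 ^ (4 * k)) 3 r := by
          have h8 := Cfsg.Agent.H425.Chr.prim_quot (f := 4 * k) (by omega) hr
          have h9 : 6 * k / Nat.gcd (6 * k) (4 * k) = 3 := by
            rw [Nat.gcd_mul_right, Nat.mul_div_mul_right _ _ (by omega)]
            norm_num
          rwa [h9] at h8
        have h8 := hs3 r hr2
        have h7 : 1 * c = (2 ^ (3 * k)) ^ 2 * ((2 ^ (3 * k) - 1) * ((2 ^ (3 * k)) ^ 2 + 1)) := hc
        rw [one_mul] at h7
        rw [h7] at h8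
        have h8' : Prim (2 ^ (3 * k)) 2 r := by
          rw [show 6 * k = 3 * k * 2 by ring] at hr
          exact prim_pow hf₁ hr
        rcases hr.prime.dvd_mul.1 h8 with h9 | h9
        · exact h8'.not_dvd_pow _ h9
        · rcases hr.prime.dvd_mul.1 h9 with h9 | h9
          · rw [← pow_one (2 ^ (3 * k)), h8'.dvd_iff] at h9
            exact absurd h9 (by norm_num)
          · have h10 : r ∣ (2 ^ (3 * k)) ^ 2 - 1 := h8'.dvd dvd_rfl
            have h11 := Nat.dvd_sub h9 h10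
            have h12 : 1 ≤ (2 ^ (3 * k)) ^ 2 := Nat.one_le_pow _ _ (by positivity)
            rw [show (2 ^ (3 * k)) ^ 2 + 1 - ((2 ^ (3 * k)) ^ 2 - 1) = 2 by omega] at h11
            exact hr2.not_dvd_two le_rfl h11
    case ree q =>
      exfalso
      obtain rfl : q = p ^ f₁ := hfl
      obtain ⟨m, hm, hqm⟩ : ∃ m, 1 ≤ m ∧ p ^ f₁ = 3 ^ (2 * m + 1) := hg
      have hp3' : p = 3 := by
        have h4 : p ∣ 3 ^ (2 * m + 1) := by
          rw [← hqm]
          exact dvd_pow_self p (by omega)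
        exact (Nat.prime_dvd_prime_iff_eq hp Nat.prime_three).1 (hp.dvd_of_dvd_pow h4)
      exact hp3 hp3'
    all_goals exact absurd hO not_false
  · -- the exponent `6 f`
    have h6 : ∀ s, Prim p (f * 6) s → s ∣ c := by
      intro s hs
      rw [← hfM] at hs
      exact hK.has hY (by omega) hs
    rcases Cfsg.Agent.H394.Wei.charp_g2_6 hp hf (fun h => by
      have := hf3 h.1
      omega) hg hch hc hdvd h6 with rfl | rfl | rfl | ⟨rfl, -⟩ | ⟨rfl, h, rfl, rfl | rfl⟩
    · right; left; rfl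
    · right; right; left; rfl
    · exfalso
      obtain ⟨r, hr⟩ := exists_prim (q := p ^ f) (e := 3) hq (by norm_num) (by omega)
      exact not_dvd_u (e := 3) hr rfl (by norm_num) (by norm_num) _ (hr3 r hr)
    · exact absurd rfl hp3
    · exfalso
      have hR : 2 ≤ 2 ^ h := Nat.le_self_pow (by omega) _
      obtain ⟨r, hr⟩ := exists_prim (q := 2 ^ h) (e := 3) hR (by norm_num) (by omega)
      have h7 := hr3 r (by rw [mul_comm 2 h, pow_mul]; exact prim_of_coprime hr (by norm_num))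
      exact not_dvd_tf4 hr h7
    · exfalso
      have hh : 2 ≤ h := by
        have := hf3 rfl
        omega
      obtain ⟨r, hr⟩ := exists_prim (q := 2) (e := 2 * h * 3) le_rfl (by omega) (by omega)
      have hr2 := prim_pow hf hr
      have h8 := hs3 r hr2
      have h7 : 1 * c = (2 ^ (3 * h)) ^ 2 * ((2 ^ (3 * h) - 1) * ((2 ^ (3 * h)) ^ 2 + 1)) := hc
      rw [one_mul] at h7
      rw [h7] at h8
      have h8' : Prim (2 ^ (3 * h)) 2 r := by
        rw [show 2 * h * 3 = 3 * h * 2 by ring] at hr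
        exact prim_pow (by omega) hr
      rcases hr.prime.dvd_mul.1 h8 with h9 | h9
      · exact h8'.not_dvd_pow _ h9
      · rcases hr.prime.dvd_mul.1 h9 with h9 | h9
        · rw [← pow_one (2 ^ (3 * h)), h8'.dvd_iff] at h9
          exact absurd h9 (by norm_num)
        · have h10 : r ∣ (2 ^ (3 * h)) ^ 2 - 1 := h8'.dvd dvd_rfl
          have h11 := Nat.dvd_sub h9 h10
          have h12 : 1 ≤ (2 ^ (3 * h)) ^ 2 := Nat.one_le_pow _ _ (by positivity)
          rw [show (2 ^ (3 * h)) ^ 2 + 1 - ((2 ^ (3 * h)) ^ 2 - 1) = 2 by omega] at h11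
          exact hr2.not_dvd_two le_rfl h11

end Cfsg.Agent.H244.G2S
end
end
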